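import Groth.Agent.CycLib.DualBdl.Poly
import Groth.Agent.CycLib.RelTop.Regular

/-!
The local algebra of the deformation: `A[U, T]` with the elements `T` and `f - T U`.
-/

set_option autoImplicit false
set_option linter.style.haveILetI false

universe u

open MvPolynomial

noncomputable section

namespace Groth.Agent.CycLib.Deform

open Groth.Agent.CycLib.RelTop

variable {R : Type u} [CommRing R]

/-- The extension of a prime to polynomials is prime. -/
theorem isPrime_mapC {σ : Type*} (p : Ideal R) [p.IsPrime] :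
    (p.map (C : R →+* MvPolynomial σ R)).IsPrime := by
  have : RingHom.ker (MvPolynomial.map (σ := σ) (Ideal.Quotient.mk p)) = p.map C := by
    rw [MvPolynomial.ker_map, Ideal.mk_ker]
  rw [← this]
  exact RingHom.ker_isPrime _

theorem mem_mapC_iff {σ : Type*} (p : Ideal R) (g : MvPolynomial σ R) :
    g ∈ p.map (C : R →+* MvPolynomial σ R) ↔ MvPolynomial.map (Ideal.Quotient.mk p) g = 0 := by
  rw [← RingHom.mem_ker, MvPolynomial.ker_map, Ideal.mk_ker]

theorem reg_X (p : Ideal R) [p.IsPrime] (k : Fin 2) (y : MvPolynomial (Fin 2) R)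
    (h : y * X k ∈ p.map C) : y ∈ p.map (C : R →+* MvPolynomial (Fin 2) R) := by
  refine ((isPrime_mapC p).mem_or_mem h).resolve_right fun hk => ?_
  rw [mem_mapC_iff, map_X] at hk
  exact X_ne_zero k hk

theorem reg_sub (p : Ideal R) [p.IsPrime] (f : R) (y : MvPolynomial (Fin 2) R)
    (h : y * (C f - X 1 * X 0) ∈ p.map C) : y ∈ p.map (C : R →+* MvPolynomial (Fin 2) R) := by
  refine ((isPrime_mapC p).mem_or_mem h).resolve_right fun hk => ?_
  rw [mem_mapC_iff, map_sub, map_mul, map_C, map_X, map_X] at hk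
  have := congrArg (MvPolynomial.eval₂Hom (Polynomial.C : R ⧸ p →+* Polynomial (R ⧸ p))
    (fun _ => Polynomial.X)) hk
  simp only [map_sub, map_mul, MvPolynomial.eval₂Hom_C, MvPolynomial.eval₂Hom_X', map_zero, ← sq] at this
  have h2 := congrArg (fun P : Polynomial (R ⧸ p) => P.coeff 2) this
  simp [Polynomial.coeff_C] at h2

theorem reg_X_mod (p : Ideal R) [p.IsPrime] (y : MvPolynomial (Fin 2) R)
    (h : y * X 0 ∈ p.map C ⊔ Ideal.span {X 1}) :
    y ∈ p.map (C : R →+* MvPolynomial (Fin 2) R) ⊔ Ideal.span {X 1} := by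
  classical
  have e : Ideal.span {(X 1 : MvPolynomial (Fin 2) R)} = Ideal.span (X '' ({1} : Set (Fin 2))) := by
    rw [Set.image_singleton]
  rw [e, DualBdl.mem_sup_iff] at h ⊢
  rw [map_mul, map_mul] at h
  simp only [DualBdl.zeroOut, aeval_X, Set.mem_singleton_iff, Fin.reduceEq, if_false, map_X] at h ⊢
  exact (mul_eq_zero.1 h).resolve_right (X_ne_zero _)

/-- Regularity modulo the extended ideal along a flat map. -/
theorem regGen_map {S : Type u} [CommRing S] (φ : MvPolynomial (Fin 2) R →+* S) (hφ : φ.Flat)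
    (I : Ideal (MvPolynomial (Fin 2) R)) (x : MvPolynomial (Fin 2) R) (h : ∀ y, y * x ∈ I → y ∈ I)
    (y : S) (hy : y * φ x ∈ I.map φ) : y ∈ I.map φ := by
  letI := φ.toAlgebra
  haveI : Module.Flat (MvPolynomial (Fin 2) R) S := hφ
  exact regMod_flat I x h y hy

theorem constantCoeff_eq_zero_iff (g : MvPolynomial (Fin 2) R) :
    constantCoeff g = 0 ↔ g ∈ Ideal.span {X 0, X 1} := by
  classical
  constructor
  · intro hg
    have h0 : ∀ f : MvPolynomial (Fin 2) R, DualBdl.zeroOut Set.univ f = C (constantCoeff f) := fun f => by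
      induction f using MvPolynomial.induction_on with
      | C a => simp [DualBdl.zeroOut]
      | add a b ha hb => simp [ha, hb]
      | mul_X a i ha => simp [DualBdl.zeroOut]
    have h1 := DualBdl.sub_zeroOut_mem Set.univ g
    rw [h0, hg, map_zero, sub_zero, Set.image_univ] at h1
    refine Ideal.span_mono ?_ h1
    rintro _ ⟨k, rfl⟩
    fin_cases k <;> simp
  · intro hg
    have : Ideal.span {(X 0 : MvPolynomial (Fin 2) R), X 1} ≤ RingHom.ker (constantCoeff (R := R)) := by
      rw [Ideal.span_le]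
      rintro _ (rfl | rfl) <;> simp
    exact this hg

end Groth.Agent.CycLib.Deform
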