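import Groth.Agent.CycLib.Deform.Alg
import Groth.Agent.CycLib.Deform.Common
import Groth.Agent.CycLib.DualBdl.Local
import Groth.Agent.CycLib.DualBdl.Shift
import Groth.Agent.CycLib.VecBdl.Completion
import Groth.Agent.CycLib.DevC1Tensor
import Groth.Agent.Omega.PPIso
import Groth.Agent.KFlat.Hom
import Groth.Agent.HomShQC.Basic
import Groth.Agent.PerfTri.Bounded
import Groth.Agent.DualCx.AdjAmp
import Groth.Agent.SymLib.Sheaf
import Groth.Agent.RelSpecLib.Vertex

/-!
The ambient bundle `L ⊕ O` of the deformation to a principal divisor, with its tautological sections.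
-/

set_option autoImplicit false
set_option linter.style.haveILetI false
set_option maxHeartbeats 1600000

universe u

open CategoryTheory CategoryTheory.Limits AlgebraicGeometry TopologicalSpace Opposite

noncomputable section

namespace Groth.Agent.CycLib.Deform

open Groth.Agent.CycLib.Dev Groth.Agent.PullStalk.Sky Groth.Agent.LFFrame Groth.Agent.CycLib.ZeroTop
open Groth.Agent.CycLib.RelTop Groth.Agent.CycLib.VecBdl Groth.Agent.CycLib.DualBdl

variable {X : Scheme.{u}}

theorem zJ_strSect {V : Scheme.{u}} (τ : Γ(V, ⊤)) (v : V) :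
    zJ (Coh.structureModule V) (OmegaSh.strSect V ⊤ τ) v = Ideal.span {V.presheaf.germ ⊤ v trivial τ} := by
  rw [zJ, show germM (Coh.structureModule V) ⊤ v trivial (OmegaSh.strSect V ⊤ τ) =
    V.presheaf.germ ⊤ v trivial τ • oneGerm v from ?_]
  · exact coIdeal_smul (isBas_oneGerm v) _
  · refine Eq.trans ?_ (germM_smul (Coh.structureModule V) ⊤ v trivial τ _)
    exact congrArg (germM (Coh.structureModule V) ⊤ v trivial) (mul_one τ).symm

theorem sup_span_sub {R : Type*} [CommRing R] (a b c : R) :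
    Ideal.span {a - b * c} ⊔ Ideal.span {b} = Ideal.span {a} ⊔ Ideal.span {b} := by
  refine le_antisymm (sup_le ?_ le_sup_right) (sup_le ?_ le_sup_right) <;> rw [Ideal.span_singleton_le_iff_mem]
  · exact sub_mem (Ideal.mem_sup_left (Ideal.mem_span_singleton_self a))
      (Ideal.mem_sup_right (Ideal.mul_mem_right c _ (Ideal.mem_span_singleton_self b)))
  · have h : a - b * c + b * c ∈ Ideal.span {a - b * c} ⊔ Ideal.span {b} :=
      add_mem (Ideal.mem_sup_left (Ideal.mem_span_singleton_self _))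
        (Ideal.mem_sup_right (Ideal.mul_mem_right c _ (Ideal.mem_span_singleton_self b)))
    rwa [sub_add_cancel] at h

/-- A frame of the sum with the structure sheaf. -/
theorem isFrame_plus {L : X.Modules} [(plusO L).IsQuasicoherent] {U : X.Opens} (hU : IsAffineOpen U)
    (e : Fin 1 → Γ(L, U)) (he : IsFrame L U e) : IsFrame (plusO L) U (plusFrame le_rfl e) := by
  have hb := bijective_plusFrame le_rfl e (he U le_rfl)
  let f : (Fin 2 → Γ(X, U)) →ₗ[Γ(X, U)] Γ(plusO L, U) := Fintype.linearCombination Γ(X, U) (plusFrame le_rfl e)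
  have hf : ∀ a, f a = comb (plusO L) (plusFrame le_rfl e) (le_refl U) a := fun a => by
    rw [comb_self]
    exact Fintype.linearCombination_apply Γ(X, U) _ _
  let E := LinearEquiv.ofBijective f (by rwa [show ⇑f = comb (plusO L) (plusFrame le_rfl e) (le_refl U) from funext hf])
  convert Desc44.ProjBundle.isFrame_of_basis hU (Module.Basis.ofEquivFun E.symm) using 1
  funext k
  rw [Module.Basis.coe_ofEquivFun, LinearEquiv.symm_symm]
  show plusFrame le_rfl e k = f (Pi.single k 1)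
  rw [Fintype.linearCombination_apply_single, one_smul]

/-- The ambient bundle with its sections. -/
structure Ambient (L : X.Modules) (s : L.presheaf.obj (op ⊤)) where
  V : Scheme.{u}
  π : V ⟶ X
  aff : IsAffineHom π
  flat : Flat π
  lft : LocallyOfFiniteType π
  shift : ∀ {δ : X → ℤ} {δV : V → ℤ}, Cyc.IsSetup X δ → Cyc.DeltaCompat π δV δ →
    ShiftBy π δV δ ((1 + 1 : ℕ) : ℤ)
  u : ((Scheme.Modules.pullback π).obj L).presheaf.obj (op ⊤)
  σ : ((Scheme.Modules.pullback π).obj L).presheaf.obj (op ⊤)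
  τ : (Coh.structureModule V).presheaf.obj (op ⊤)
  regτ : ∀ v, RegGen (fibI π v) (zJ (Coh.structureModule V) τ v)
  regσ : ∀ v, RegGen (fibI π v) (zJ _ σ v)
  regu : ∀ v, RegGen (fibI π v ⊔ zJ (Coh.structureModule V) τ v) (zJ _ u v)
  comb : ∀ v, zJ _ σ v ⊔ zJ (Coh.structureModule V) τ v = zJ _ (gsec π L s) v ⊔ zJ (Coh.structureModule V) τ v
  Z0 : Scheme.{u}
  ι0 : Z0 ⟶ V
  closed0 : IsClosedImmersion ι0
  iso0 : IsIso (ι0 ≫ π)
  range0 : Set.range ι0 = {v | zJ _ u v ⊔ zJ (Coh.structureModule V) τ v ≠ ⊤}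
  ker0 : ∀ z, RingHom.ker (ι0.stalkMap z).hom = zJ _ u (ι0 z) ⊔ zJ (Coh.structureModule V) τ (ι0 z)

theorem exists_ambient [IsLocallyNoetherian X] {L : X.Modules} (hL : PicF.IsInvertible L)
    (s : L.presheaf.obj (op ⊤)) : Nonempty (Ambient L s) := by
  classical
  have hL1 : FlatMod.IsFinLocFreeOfRank 1 L := ProjTwist.isFinLocFreeOfRank_one hL
  haveI hLq : L.IsQuasicoherent := PerfTri.Betti.isQuasicoherent_of_isFinLocFree (ChowOp.isFinLocFree_of_rank hL1)
  haveI hNq : (plusO L).IsQuasicoherent := isQCoh_plusO L hLq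
  haveI := KFlat.hasSheafHom_scheme (plusO L)
  have hN : FlatMod.IsFinLocFreeOfRank 2 (plusO L) := FinCov71.isFinLocFreeOfRank_of_frames fun x => by
    obtain ⟨W, e, hxW, he⟩ := FinCov71.exists_isFrame_rank hL1 x
    obtain ⟨U, hU, hxU, hUW⟩ := exists_isAffineOpen_mem_and_subset hxW
    exact ⟨U, _, hxU, isFrame_plus hU _ (Desc44.ProjBundle.isFrame_restrict he hUW)⟩
  obtain ⟨ψ, -⟩ := exists_pairIso (plusO L)
  haveI : (dualM (plusO L)).IsQuasicoherent := DualCx.AdjAmp.isQCoh_of_iso _ _ ψ.symm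
    (HomShQC.isQuasicoherent_homSh _ _
      (HomShQC.isFP_of_isCoh _ (PerfTri.Bounded.isCoh_of_isFinLocFree (ChowOp.isFinLocFree_of_rank hN)))
      (ProjTwist.isQuasicoherent_structureModule X))
  let A := SymLib.symAlg (dualM (plusO L))
  let j : dualM (plusO L) ⟶ A.toModule := SymLib.jSym (dualM (plusO L))
  have hA : RelSpec.IsSymAlg (dualM (plusO L)) A j := SymLib.isSymAlg_symAlg (dualM (plusO L))
  have hqd : Coh.IsQCoh (dualM (plusO L)) := inferInstanceAs (dualM (plusO L)).IsQuasicoherent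
  have hEd := isFinLocFreeOfRank_dual hN
  obtain ⟨u, hu⟩ := exists_sect (E := L) j (prE L) hN
  obtain ⟨t0, ht0⟩ := exists_sect (E := Coh.structureModule X) j (prO L) hN
  let τ : Γ(A.spec, ⊤) := (QCoh.pullbackUnitIso A.π).hom.app ⊤ t0
  let σ : ((Scheme.Modules.pullback A.π).obj L).presheaf.obj (op ⊤) := gsec A.π L s - τ • u
  have hM := PicCl.isInvertible_pullback A.π hL
  -- the local picture
  have chart : ∀ (U : X.Opens) (hU : IsAffineOpen U) (e : Fin 1 → Γ(L, U)) (he : IsFrame L U e),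
      ∃ f : Γ(X, U), ∀ (v : A.spec) (hv : v ∈ A.π ⁻¹ᵁ U),
        let φ : MvPolynomial (Fin 2) Γ(X, U) →+* A.spec.presheaf.stalk v :=
          (A.spec.presheaf.germ _ v hv).hom.comp (polyV hA hU (isFrame_plus hU e he)).toRingHom
        zJ _ u v = Ideal.span {φ (MvPolynomial.X 0)} ∧
        zJ (Coh.structureModule A.spec) (OmegaSh.strSect A.spec ⊤ τ) v = Ideal.span {φ (MvPolynomial.X 1)} ∧
        zJ _ σ v = Ideal.span {φ (MvPolynomial.C f - MvPolynomial.X 1 * MvPolynomial.X 0)} ∧
        zJ _ (gsec A.π L s) v = Ideal.span {φ (MvPolynomial.C f)} ∧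
        φ.Flat ∧ fibI A.π v = ((hU.primeIdealOf ⟨A.π v, hv⟩).asIdeal.map MvPolynomial.C).map φ := by
    intro U hU e he
    have hn := isFrame_plus hU e he
    obtain ⟨c, hc⟩ := (he U le_rfl).2 (L.presheaf.map (homOfLE le_top).op s)
    rw [comb_self, Fin.sum_univ_one] at hc
    refine ⟨c 0, fun v hv => ?_⟩
    intro φ
    let M := (Scheme.Modules.pullback A.π).obj L
    let g : M.presheaf.stalk v := germM M (A.π ⁻¹ᵁ U) v hv (unitSec A.π L U (e 0))
    have hg : IsBas g := by
      have h := (IsFrame.pullback A.π he).stalkComb_bijective v hv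
      refine ⟨fun a b hab => ?_, fun w => ?_⟩
      · have := h.1 (a₁ := fun _ => a) (a₂ := fun _ => b) (by
          simpa [stalkComb, Fintype.linearCombination_apply, g] using hab)
        exact congrFun this 0
      · obtain ⟨a, ha⟩ := h.2 w
        exact ⟨a 0, by rw [← ha]; simp [stalkComb, Fintype.linearCombination_apply, g]; rfl⟩
    have n0 : plusFrame le_rfl e 0 = (inE L).app U (e 0) := by
      have h := Fin.insertNth_apply_succAbove (α := fun _ => Γ(plusO L, U)) (one₁ (le_refl 1)) (oneSec L U)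
        (fun i => (inE L).app U (e i)) 0
      exact h
    have n1 : plusFrame le_rfl e 1 = oneSec L U :=
      Fin.insertNth_apply_same (α := fun _ => Γ(plusO L, U)) (one₁ (le_refl 1)) (oneSec L U) _
    have hC : ∀ r : Γ(X, U), φ (MvPolynomial.C r) = A.π.stalkMap v (X.presheaf.germ U (A.π v) hv r) := fun r => by
      show A.spec.presheaf.germ _ v hv (polyV hA hU hn (MvPolynomial.C r)) = _
      rw [polyV_C]
      exact (Scheme.Hom.germ_stalkMap_apply A.π U v hv r).symm
    have hX : ∀ k, φ (MvPolynomial.X k) = A.spec.presheaf.germ _ v hv (tV j U hU (df hU hn k)) := fun k => by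
      show A.spec.presheaf.germ _ v hv (polyV hA hU hn (MvPolynomial.X k)) = _
      rw [polyV_X]
    have gu : germM M ⊤ v trivial u = φ (MvPolynomial.X 0) • g := by
      have e1 : loc j (prE L) hU hn = tV j U hU (df hU hn 0) • unitSec A.π L U (e 0) := by
        rw [loc, Fin.sum_univ_two, n0, n1, prE_inE, oneSec, prE_inO, map_zero (unitSec A.π L U), smul_zero, add_zero]
      refine (M.presheaf.germ_res_apply (homOfLE (le_top : A.π ⁻¹ᵁ U ≤ ⊤)) v hv u).symm.trans ?_
      refine (congrArg (germM M (A.π ⁻¹ᵁ U) v hv) ((hu U hU _ hn).trans e1)).trans ?_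
      rw [hX]
      exact germM_smul M _ v hv _ _
    have gτ : A.spec.presheaf.germ ⊤ v trivial τ = φ (MvPolynomial.X 1) := by
      have e1 : loc j (prO L) hU hn = tV j U hU (df hU hn 1) •
          unitSec A.π (Coh.structureModule X) U (OmegaSh.strSect X U 1) := by
        rw [loc, Fin.sum_univ_two, n0, n1, prO_inE, oneSec, prO_inO,
          map_zero (unitSec A.π (Coh.structureModule X) U), smul_zero, zero_add]
        rfl
      rw [hX, ← A.spec.presheaf.germ_res_apply (homOfLE (le_top : A.π ⁻¹ᵁ U ≤ ⊤)) v hv τ]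
      refine congrArg (A.spec.presheaf.germ _ v hv) ?_
      have h2 := (QCoh.app_res (QCoh.pullbackUnitIso A.π).hom (le_top : A.π ⁻¹ᵁ U ≤ ⊤) t0).symm
      refine h2.trans ?_
      refine (congrArg ((QCoh.pullbackUnitIso A.π).hom.app (A.π ⁻¹ᵁ U)) ((ht0 U hU _ hn).trans e1)).trans ?_
      refine ((QCoh.pullbackUnitIso A.π).hom.app_smul _ _).trans ?_
      have h3 : (QCoh.pullbackUnitIso A.π).hom.app (A.π ⁻¹ᵁ U)
          (unitSec A.π (Coh.structureModule X) U (OmegaSh.strSect X U 1)) =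
            OmegaSh.strSect A.spec (A.π ⁻¹ᵁ U) (A.π.app U 1) :=
        Omega.PPIso.pullbackUnitIso_hom_app A.π U 1
      rw [h3, map_one]
      exact mul_one (tV j U hU (df hU hn 1))
    have gs : germM M ⊤ v trivial (gsec A.π L s) = φ (MvPolynomial.C (c 0)) • g := by
      rw [germ_gsec, show germM L ⊤ (A.π v) trivial s = X.presheaf.germ U (A.π v) hv (c 0) •
          germM L U (A.π v) hv (e 0) from
        ((L.presheaf.germ_res_apply (homOfLE (le_top : U ≤ ⊤)) (A.π v) hv s).symm.trans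
          (congrArg (germM L U (A.π v) hv) hc.symm)).trans (germM_smul L U (A.π v) hv _ _),
        PullStalk.Basic.unitStalkHom_smul, hC, PullStalk.Basic.unitStalkHom_germ]
      rfl
    have gσ : germM M ⊤ v trivial σ = φ (MvPolynomial.C (c 0) - MvPolynomial.X 1 * MvPolynomial.X 0) • g := by
      rw [map_sub, map_mul, sub_smul, mul_smul, ← gu, ← gs, ← gτ]
      refine (map_sub (M.presheaf.germ ⊤ v trivial).hom (gsec A.π L s) (τ • u)).trans ?_
      exact congrArg (fun z : M.presheaf.stalk v => germM M ⊤ v trivial (gsec A.π L s) - z)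
        (germM_smul M ⊤ v trivial τ u)
    refine ⟨?_, ?_, ?_, ?_, ?_, ?_⟩
    · rw [zJ, gu, coIdeal_smul hg]
    · rw [zJ_strSect, gτ]
    · rw [zJ, gσ, coIdeal_smul hg]
    · rw [zJ, gs, coIdeal_smul hg]
    · refine RingHom.Flat.comp (RingHom.Flat.of_bijective (polyV hA hU hn).bijective) ?_
      letI := A.spec.presheaf.algebra_section_stalk (⟨v, hv⟩ : (A.π ⁻¹ᵁ U : A.spec.Opens))
      haveI : IsLocalization.AtPrime (A.spec.presheaf.stalk v) ((hU.preimage A.π).primeIdealOf ⟨v, hv⟩).asIdeal :=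
        (hU.preimage A.π).isLocalization_stalk ⟨v, hv⟩
      exact (RingHom.flat_algebraMap_iff (R := Γ(A.spec, A.π ⁻¹ᵁ U)) (S := A.spec.presheaf.stalk v)).2
        (IsLocalization.flat _ ((hU.preimage A.π).primeIdealOf ⟨v, hv⟩).asIdeal.primeCompl)
    · letI := X.presheaf.algebra_section_stalk (⟨A.π v, hv⟩ : U)
      haveI : IsLocalization.AtPrime (X.presheaf.stalk (A.π v)) (hU.primeIdealOf ⟨A.π v, hv⟩).asIdeal :=
        hU.isLocalization_stalk ⟨A.π v, hv⟩
      rw [fibI, ← IsLocalization.AtPrime.map_eq_maximalIdeal (hU.primeIdealOf ⟨A.π v, hv⟩).asIdeal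
        (X.presheaf.stalk (A.π v)), Ideal.map_map, Ideal.map_map]
      congr 1
      ext r
      exact (hC r).symm
  have at_pt : ∀ v : A.spec, ∃ (U : X.Opens) (hU : IsAffineOpen U) (_ : v ∈ A.π ⁻¹ᵁ U) (e : Fin 1 → Γ(L, U)),
      IsFrame L U e := fun v => by
    obtain ⟨W, e, hxW, he⟩ := FinCov71.exists_isFrame_rank hL1 (A.π v)
    obtain ⟨U, hU, hxU, hUW⟩ := exists_isAffineOpen_mem_and_subset hxW
    exact ⟨U, hU, hxU, _, Desc44.ProjBundle.isFrame_restrict he hUW⟩
  -- the zero section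
  haveI := RelSpecLib.isIso_unit_π (S := X)
  obtain ⟨φ0, hφ0, -⟩ := hA (RelSpec.QCAlg.unit X) 0
  let ι0 := RelSpec.QCAlg.specMap φ0
  have hι0 : ι0 ≫ A.π = (RelSpec.QCAlg.unit X).π := RelSpec.QCAlg.specMap_π φ0
  haveI : IsClosedImmersion (ι0 ≫ A.π) := hι0 ▸ inferInstance
  haveI : IsClosedImmersion ι0 := IsClosedImmersion.of_comp ι0 A.π
  have hker0 : ∀ (U : X.Opens) (hU : IsAffineOpen U) (e : Fin 1 → Γ(L, U)) (he : IsFrame L U e),
      RingHom.ker (ι0.app (A.π ⁻¹ᵁ U)).hom = (Ideal.span {MvPolynomial.X 0, MvPolynomial.X 1}).map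
        (polyV hA hU (isFrame_plus hU e he)).toRingHom := by
    intro U hU e he
    let B := RelSpec.QCAlg.unit X
    have hn := isFrame_plus hU e he
    have hpre : ι0 ⁻¹ᵁ (A.π ⁻¹ᵁ U) = B.π ⁻¹ᵁ U := by
      rw [← Scheme.Hom.comp_preimage, hι0]
    let P := MvPolynomial (Fin 2) Γ(X, U)
    let cc : P →+* Γ(X, U) := MvPolynomial.constantCoeff
    let χ : P →+* Γ(X, U) := (φ0.hom.app (op U)).hom.comp (polyB hA hU hn).toRingHom
    have happ : χ = cc := by
      refine MvPolynomial.ringHom_ext (fun r => ?_) fun k => ?_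
      · refine Eq.trans ?_ (MvPolynomial.constantCoeff_C (R := Γ(X, U)) (Fin 2) r).symm
        show (φ0.hom.app (op U)).hom (polyB hA hU hn (MvPolynomial.C r)) = _
        rw [polyB_C]
        exact RelSpecLib.str_comp_app φ0 U r
      · refine Eq.trans ?_ (MvPolynomial.constantCoeff_X (R := Γ(X, U)) k).symm
        show (φ0.hom.app (op U)).hom (polyB hA hU hn (MvPolynomial.X k)) = _
        rw [polyB_X]
        exact congr(($hφ0).app U (df hU hn k))
    have h1 : ∀ x, (ι0.app (A.π ⁻¹ᵁ U)) x = 0 ↔ χ ((polyV hA hU hn).symm x) = 0 := fun x => by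
      haveI : IsIso (homOfLE hpre.ge) := ⟨homOfLE hpre.le, rfl, rfl⟩
      haveI : IsIso (B.spec.presheaf.map (homOfLE hpre.ge).op) := inferInstance
      rw [← map_eq_zero_iff (B.spec.presheaf.map (homOfLE hpre.ge).op).hom
          (ConcreteCategory.bijective_of_isIso (B.spec.presheaf.map (homOfLE hpre.ge).op)).1,
        ← map_eq_zero_iff (B.gammaAff U hU).hom (DualBdl.gamma_injective (A := B) U hU)]
      have e1 := CategoryTheory.congr_fun (gamma_specMap φ0 hU hpre.ge) x
      rw [Scheme.Hom.appLE] at e1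
      refine (Eq.congr_left e1).trans ?_
      conv_lhs => rw [← (polyV hA hU hn).apply_symm_apply x]
      rw [ConcreteCategory.comp_apply, gamma_polyV]
      rfl
    ext x
    rw [RingHom.mem_ker]
    refine (h1 x).trans ?_
    rw [happ]
    refine (constantCoeff_eq_zero_iff _).trans ⟨fun h => ?_, fun h => ?_⟩
    · have := Ideal.mem_map_of_mem (polyV hA hU hn).toRingHom h
      simpa using this
    · obtain ⟨y, hy, e1⟩ := (Ideal.mem_map_iff_of_surjective _ (polyV hA hU hn).surjective).1 h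
      rw [← e1]
      simpa using hy
  have hz0 : ∀ v : A.spec, ∃ (W : A.spec.Opens) (_ : IsAffineOpen W) (hv : v ∈ W),
      zJ _ u v ⊔ zJ (Coh.structureModule A.spec) (OmegaSh.strSect A.spec ⊤ τ) v =
        (RingHom.ker (ι0.app W).hom).map (A.spec.presheaf.germ W v hv).hom := by
    intro v
    obtain ⟨U, hU, hv, e, he⟩ := at_pt v
    obtain ⟨f, hf⟩ := chart U hU e he
    obtain ⟨h0, h1, -⟩ := hf v hv
    refine ⟨A.π ⁻¹ᵁ U, hU.preimage A.π, hv, ?_⟩
    rw [hker0 U hU e he, Ideal.map_map, Ideal.map_span, Set.image_insert_eq, Set.image_singleton, h0, h1,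
      ← Ideal.span_union, Set.singleton_union]
  obtain ⟨hfl, hlft⟩ : Flat A.π ∧ LocallyOfFiniteType A.π := by
    obtain ⟨P, p, O1, i, Lc, hi, hip, hp, -, -, -⟩ := VecBdl.exists_completion hqd (by omega : 1 ≤ 2) hEd hA
    haveI := hi
    haveI := hp
    haveI := Lc.flat
    exact ⟨hip ▸ inferInstance, hip ▸ inferInstance⟩
  refine ⟨{
    V := A.spec, π := A.π, aff := inferInstance, flat := hfl, lft := hlft
    shift := fun hX hδ => (shift_vectorBundle hqd hEd hA hX hδ).2.2.1
    u := u, σ := σ, τ := OmegaSh.strSect A.spec ⊤ τ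
    regτ := fun v => ?_, regσ := fun v => ?_, regu := fun v => ?_, comb := fun v => ?_
    Z0 := (RelSpec.QCAlg.unit X).spec, ι0 := ι0, closed0 := inferInstance, iso0 := hι0 ▸ inferInstance
    range0 := ?_, ker0 := ?_ }⟩
  rotate_right 2
  · ext v
    obtain ⟨W, hW, hv, h⟩ := hz0 v
    refine ⟨fun ⟨z, hz⟩ htop => ?_, fun hne => mem_range_of_affine ι0 hW v hv (h ▸ hne)⟩
    subst hz
    rw [h, ← ker_stalkMap_of_affine ι0 hW z hv] at htop
    exact RingHom.ker_ne_top _ htop
  · intro z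
    obtain ⟨W, hW, hv, h⟩ := hz0 (ι0 z)
    rw [h, ker_stalkMap_of_affine ι0 hW z hv]
  all_goals
    obtain ⟨U, hU, hv, e, he⟩ := at_pt v
    obtain ⟨f, hf⟩ := chart U hU e he
    obtain ⟨h0, h1, h2, h3, hflat, hI⟩ := hf v hv
  · refine ⟨_, h1, fun y hy => ?_⟩
    rw [hI] at hy ⊢
    exact regGen_map _ hflat _ _ (reg_X _ 1) y hy
  · refine ⟨_, h2, fun y hy => ?_⟩
    rw [hI] at hy ⊢
    exact regGen_map _ hflat _ _ (reg_sub _ f) y hy
  · refine ⟨_, h0, fun y hy => ?_⟩
    rw [hI, h1, ← Set.image_singleton, ← Ideal.map_span, ← Ideal.map_sup] at hy ⊢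
    exact regGen_map _ hflat _ _ (reg_X_mod _) y hy
  · rw [h1, h2, h3, map_sub, map_mul]
    exact sup_span_sub _ _ _

end Groth.Agent.CycLib.Deform
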